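import Mathlib

/-!
# S3620 (Marggraf) : shared definitions and the statements of the pieces (see PLAN.md)
-/

set_option autoImplicit false

open MulAction

universe u v

namespace Cfsg.Agent.Lib.Helper20.Marg

/-- `Δ` is a Jordan set for the action of `G` on `α` : the pointwise stabilizer of the complement of `Δ`
is transitive on `Δ` (elementwise formulation). -/
def IsJordanSet (G : Type*) [Group G] {α : Type*} [MulAction G α] (Δ : Set α) : Prop :=
  ∀ x ∈ Δ, ∀ y ∈ Δ, ∃ g : G, (∀ z, z ∉ Δ → g • z = z) ∧ g • x = y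

/-- Piece (A) : point stabilizers of a 2-transitive group with a Jordan set of size `2 ≤ m ≤ n/2`
are primitive on the remaining points. -/
def StabPrimProp : Prop :=
  ∀ {G : Type v} [Group G] {α : Type u} [MulAction G α] [Fintype α],
    IsMultiplyPretransitive G α 2 → ∀ {Δ : Set α}, IsJordanSet G Δ → 2 ≤ Δ.ncard →
    2 * Δ.ncard ≤ Fintype.card α → ∀ ω : α,
    IsPreprimitive (stabilizer G ω) (SubMulAction.ofStabilizer G ω)

/-- Piece (B) : two Jordan sets of the same size `m` (`2 ≤ m < n/2`) differing in one point, in a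
primitive group, force the alternating group. -/
def DiffOneProp : Prop :=
  ∀ {G : Type v} [Group G] {α : Type u} [MulAction G α] [Fintype α] [DecidableEq α],
    IsPreprimitive G α → ∀ {Δ₀ Δ₁ : Set α}, IsJordanSet G Δ₀ → IsJordanSet G Δ₁ →
    2 ≤ Δ₀.ncard → Δ₁.ncard = Δ₀.ncard → 2 * Δ₀.ncard < Fintype.card α →
    (Δ₁ \ Δ₀).ncard = 1 →
    alternatingGroup α ≤ (MulAction.toPermHom G α).range

/-- Theorem P : a primitive group with a Jordan set of size `2 ≤ m < n/2` induces at least the
alternating group. -/
def MainProp : Prop :=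
  ∀ {G : Type v} [Group G] {α : Type u} [MulAction G α] [Fintype α] [DecidableEq α],
    IsPreprimitive G α → ∀ {Δ : Set α}, IsJordanSet G Δ → 2 ≤ Δ.ncard →
    2 * Δ.ncard < Fintype.card α →
    alternatingGroup α ≤ (MulAction.toPermHom G α).range

end Cfsg.Agent.Lib.Helper20.Marg
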