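import Cfsg.Agent.Lib.Helper20.Marg.Main
import Cfsg.Agent.Lib.Helper29.MargA
import Cfsg.Agent.Lib.Helper22.MargB

/-!
# S3620 (Marggraf) : Theorem P assembled
-/

set_option autoImplicit false

universe u v

namespace Cfsg.Agent.Lib.Helper20.Marg

/-- Theorem P : a primitive group with a Jordan set of size `2 ≤ m < n/2` induces at least the
alternating group. -/
theorem mainProp : MainProp.{u, v} :=
  main Cfsg.Agent.Lib.Helper29.MargA.stabPrim Cfsg.Agent.Lib.Helper22.MargB.diffOne

end Cfsg.Agent.Lib.Helper20.Marg
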