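import Cfsg.Agent.Lib.Helper20.Marg.Defs

/-!
# S3620 (Marggraf) : basic facts on Jordan sets and flats
-/

set_option autoImplicit false

open MulAction
open scoped Pointwise

namespace Cfsg.Agent.Lib.Helper20.Marg

variable {G : Type*} [Group G] {α : Type*} [MulAction G α]

/-- Conversion to Mathlib's formulation. -/
theorem isJordanSet_compl_iff (s : Set α) :
    IsJordanSet G sᶜ ↔
      IsPretransitive (fixingSubgroup G s) (SubMulAction.ofFixingSubgroup G s) := by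
  constructor
  · intro h
    refine ⟨fun x y => ?_⟩
    have hx : (x : α) ∈ sᶜ := (SubMulAction.mem_ofFixingSubgroup_iff G).1 x.2
    have hy : (y : α) ∈ sᶜ := (SubMulAction.mem_ofFixingSubgroup_iff G).1 y.2
    obtain ⟨g, hg, hgx⟩ := h x hx y hy
    have hmem : g ∈ fixingSubgroup G s := by
      rw [mem_fixingSubgroup_iff]
      intro z hz
      exact hg z (fun hz' => hz' hz)
    refine ⟨⟨g, hmem⟩, ?_⟩
    apply Subtype.ext
    exact hgx
  · intro h x hx y hy
    have hx' : x ∈ SubMulAction.ofFixingSubgroup G s :=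
      (SubMulAction.mem_ofFixingSubgroup_iff G).2 hx
    have hy' : y ∈ SubMulAction.ofFixingSubgroup G s :=
      (SubMulAction.mem_ofFixingSubgroup_iff G).2 hy
    obtain ⟨g, hg⟩ := h.exists_smul_eq (⟨x, hx'⟩ : SubMulAction.ofFixingSubgroup G s) ⟨y, hy'⟩
    refine ⟨(g : G), ?_, ?_⟩
    · intro z hz
      have hz' : z ∈ s := by
        by_contra hc
        exact hz hc
      exact (mem_fixingSubgroup_iff G).1 g.2 z hz'
    · exact congrArg Subtype.val hg

theorem isJordanSet_iff (Δ : Set α) :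
    IsJordanSet G Δ ↔
      IsPretransitive (fixingSubgroup G Δᶜ) (SubMulAction.ofFixingSubgroup G Δᶜ) := by
  rw [← isJordanSet_compl_iff, compl_compl]

/-- A flat : the pointwise stabilizer is transitive on the complement. -/
def IsFlat (G : Type*) [Group G] {α : Type*} [MulAction G α] (Φ : Set α) : Prop :=
  IsJordanSet G Φᶜ

theorem isFlat_iff (Φ : Set α) : IsFlat G Φ ↔
    ∀ x, x ∉ Φ → ∀ y, y ∉ Φ → ∃ g : G, (∀ z ∈ Φ, g • z = z) ∧ g • x = y := by
  unfold IsFlat IsJordanSet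
  constructor
  · intro h x hx y hy
    obtain ⟨g, hg, hgx⟩ := h x hx y hy
    exact ⟨g, fun z hz => hg z (fun hc => hc hz), hgx⟩
  · intro h x hx y hy
    obtain ⟨g, hg, hgx⟩ := h x hx y hy
    refine ⟨g, fun z hz => hg z ?_, hgx⟩
    by_contra hc
    exact hz hc

theorem IsJordanSet.smul {Δ : Set α} (h : IsJordanSet G Δ) (g : G) : IsJordanSet G (g • Δ) := by
  intro x hx y hy
  obtain ⟨x', hx', rfl⟩ := hx
  obtain ⟨y', hy', rfl⟩ := hy
  obtain ⟨k, hk, hkx⟩ := h x' hx' y' hy'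
  refine ⟨g * k * g⁻¹, ?_, ?_⟩
  · intro z hz
    have hz' : g⁻¹ • z ∉ Δ := by
      intro hc
      apply hz
      exact ⟨g⁻¹ • z, hc, by simp⟩
    rw [mul_smul, mul_smul, hk _ hz', smul_inv_smul]
  · simp only [mul_smul, inv_smul_smul, hkx]

theorem IsFlat.smul {Φ : Set α} (h : IsFlat G Φ) (g : G) : IsFlat G (g • Φ) := by
  unfold IsFlat at *
  have := IsJordanSet.smul h g
  rwa [Set.smul_set_compl] at this

theorem IsJordanSet.union {Δ₁ Δ₂ : Set α} (h1 : IsJordanSet G Δ₁) (h2 : IsJordanSet G Δ₂)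
    (hne : (Δ₁ ∩ Δ₂).Nonempty) : IsJordanSet G (Δ₁ ∪ Δ₂) := by
  obtain ⟨w, hw1, hw2⟩ := hne
  -- every point of the union can be moved to w
  have key : ∀ x ∈ Δ₁ ∪ Δ₂, ∃ g : G, (∀ z, z ∉ Δ₁ ∪ Δ₂ → g • z = z) ∧ g • x = w := by
    intro x hx
    rcases hx with hx | hx
    · obtain ⟨g, hg, hgx⟩ := h1 x hx w hw1
      exact ⟨g, fun z hz => hg z (fun hc => hz (Or.inl hc)), hgx⟩
    · obtain ⟨g, hg, hgx⟩ := h2 x hx w hw2
      exact ⟨g, fun z hz => hg z (fun hc => hz (Or.inr hc)), hgx⟩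
  intro x hx y hy
  obtain ⟨g, hg, hgx⟩ := key x hx
  obtain ⟨k, hk, hky⟩ := key y hy
  refine ⟨k⁻¹ * g, ?_, ?_⟩
  · intro z hz
    rw [mul_smul, hg z hz, inv_smul_eq_iff, hk z hz]
  · rw [mul_smul, hgx, inv_smul_eq_iff, hky]

theorem IsFlat.inter {Φ₁ Φ₂ : Set α} (h1 : IsFlat G Φ₁) (h2 : IsFlat G Φ₂)
    (hne : ∃ x, x ∉ Φ₁ ∧ x ∉ Φ₂) : IsFlat G (Φ₁ ∩ Φ₂) := by
  unfold IsFlat at *
  rw [Set.compl_inter]
  apply IsJordanSet.union h1 h2
  obtain ⟨x, hx1, hx2⟩ := hne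
  exact ⟨x, hx1, hx2⟩

/-- In an `n`-transitive action, a set of `n - 1` points is a flat. -/
theorem isFlat_of_isMultiplyPretransitive [Finite α] {n : ℕ} (hn : IsMultiplyPretransitive G α n)
    (s : Set α) (hs : s.ncard + 1 = n) : IsFlat G s := by
  unfold IsFlat
  rw [isJordanSet_compl_iff]
  have : Finite s := Set.finite_coe_iff.mpr (Set.toFinite s)
  have := SubMulAction.ofFixingSubgroup.isMultiplyPretransitive G (m := 1) (n := n) s hs
  exact is_one_pretransitive_iff.1 this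

end Cfsg.Agent.Lib.Helper20.Marg
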