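import Cfsg.Agent.Lib.Helper20.Marg.Basic

/-!
# S3620 (Marggraf) : the boundary case `n = 2m + 1`, part 1 (pencils)
-/

set_option autoImplicit false
set_option linter.unusedSectionVars false
set_option linter.unusedVariables false

open MulAction
open scoped Pointwise

universe u v

namespace Cfsg.Agent.Lib.Helper20.Marg

variable {G : Type v} [Group G] {α : Type u} [MulAction G α] [Fintype α]

theorem ncard_smul_set' (g : G) (s : Set α) : (g • s).ncard = s.ncard := by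
  rw [← Set.image_smul]
  exact Set.ncard_image_of_injective _ (MulAction.injective g)

/-- Hypotheses of the boundary case (`Γ` a flat with `2|Γ| = n + 1`, `f` the maximal size of the
intersection of two distinct translates, `f + 2 ≤ |Γ|`). -/
structure Bdry (G : Type v) [Group G] {α : Type u} [MulAction G α] [Fintype α]
    (Γ : Set α) (f : ℕ) : Prop where
  flatΓ : IsFlat G Γ
  flat1 : ∀ a : α, IsFlat G {a}
  flat2 : ∀ a b : α, a ≠ b → IsFlat G {a, b}
  hmax : ∀ g : G, g • Γ ≠ Γ → (g • Γ ∩ Γ).ncard ≤ f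
  hf2 : 2 ≤ f
  hcard : Fintype.card α + 1 = 2 * Γ.ncard
  ha : f + 2 ≤ Γ.ncard

namespace Bdry

variable {Γ : Set α} {f : ℕ} (H : Bdry G Γ f)
include H

theorem flat_smul (g : G) : IsFlat G (g • Γ) := H.flatΓ.smul g

theorem inter_le (g g' : G) (hne : g • Γ ≠ g' • Γ) : (g • Γ ∩ g' • Γ).ncard ≤ f := by
  have h1 : (g'⁻¹ * g) • Γ ≠ Γ := by
    intro h
    apply hne
    rw [mul_smul] at h
    have h' := congrArg (fun s => g' • s) h
    simp only [smul_inv_smul] at h'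
    exact h'
  have h2 := H.hmax _ h1
  have h3 : g • Γ ∩ g' • Γ = g' • ((g'⁻¹ * g) • Γ ∩ Γ) := by
    rw [Set.smul_set_inter, mul_smul, smul_inv_smul]
  rw [h3, ncard_smul_set']
  exact h2

/-- two distinct translates sharing two points do not cover everything -/
theorem exists_notMem (g g' : G) (hne : g • Γ ≠ g' • Γ) (h2 : 2 ≤ (g • Γ ∩ g' • Γ).ncard) :
    ∃ x, x ∉ g • Γ ∧ x ∉ g' • Γ := by
  by_contra hcon
  push Not at hcon
  have hun : g • Γ ∪ g' • Γ = Set.univ := by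
    ext x
    simp only [Set.mem_union, Set.mem_univ, iff_true]
    by_cases hx : x ∈ g • Γ
    · exact Or.inl hx
    · exact Or.inr (hcon x hx)
  have h3 := Set.ncard_union_add_ncard_inter (g • Γ) (g' • Γ)
  rw [hun, Set.ncard_univ, Nat.card_eq_fintype_card, ncard_smul_set', ncard_smul_set'] at h3
  have := H.hcard
  omega

theorem flat_inter (g g' : G) (hne : g • Γ ≠ g' • Γ) (h2 : 2 ≤ (g • Γ ∩ g' • Γ).ncard) :
    IsFlat G (g • Γ ∩ g' • Γ) :=
  (H.flat_smul g).inter (H.flat_smul g') (H.exists_notMem g g' hne h2)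

/-- `F = gΓ ∩ g'Γ` of maximal size : every point outside `F` lies in a translate through `F`. -/
theorem exists_translate (g g' : G) (hne : g • Γ ≠ g' • Γ) (hf : (g • Γ ∩ g' • Γ).ncard = f)
    (y : α) (hy : y ∉ g • Γ ∩ g' • Γ) :
    ∃ k : G, g • Γ ∩ g' • Γ ⊆ k • Γ ∧ y ∈ k • Γ := by
  have hflat := H.flat_inter g g' hne (by rw [hf]; exact H.hf2)
  -- a point of gΓ outside F
  have hlt : (g • Γ ∩ g' • Γ).ncard < (g • Γ).ncard := by
    rw [hf, ncard_smul_set']
    have := H.ha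
    omega
  obtain ⟨y₀, hy₀, hy₀'⟩ := Set.exists_mem_notMem_of_ncard_lt_ncard hlt
  obtain ⟨k, hk, hky⟩ := (isFlat_iff _).1 hflat y₀ hy₀' y hy
  refine ⟨k * g, ?_, ?_⟩
  · intro z hz
    rw [mul_smul]
    refine ⟨z, hz.1, hk z hz⟩
  · rw [mul_smul]
    exact ⟨y₀, hy₀, hky⟩

/-- two distinct translates through a common `f`-set meet exactly in it -/
theorem inter_eq_of_subset (k k' : G) (hne : k • Γ ≠ k' • Γ) (F : Set α) (hF : F.ncard = f)
    (h1 : F ⊆ k • Γ) (h2 : F ⊆ k' • Γ) : k • Γ ∩ k' • Γ = F := by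
  symm
  apply Set.eq_of_subset_of_ncard_le (Set.subset_inter h1 h2)
  rw [hF]
  exact H.inter_le k k' hne


/-- three translates through `F` : `|Γ| + 1 ≤ 2 f` -/
theorem card_le_two_f (g g' : G) (hne : g • Γ ≠ g' • Γ) (hf : (g • Γ ∩ g' • Γ).ncard = f) :
    Γ.ncard + 1 ≤ 2 * f := by
  have h2 : 2 ≤ (g • Γ ∩ g' • Γ).ncard := by rw [hf]; exact H.hf2
  obtain ⟨y, hyA, hyB⟩ := H.exists_notMem g g' hne h2
  have hyF : y ∉ g • Γ ∩ g' • Γ := fun hc => hyA hc.1
  obtain ⟨k, hkF, hky⟩ := H.exists_translate g g' hne hf y hyF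
  have hkA : k • Γ ≠ g • Γ := fun hc => hyA (hc ▸ hky)
  have hkB : k • Γ ≠ g' • Γ := fun hc => hyB (hc ▸ hky)
  have e1 : k • Γ ∩ g • Γ = g • Γ ∩ g' • Γ :=
    H.inter_eq_of_subset k g hkA _ hf hkF Set.inter_subset_left
  have e2 : k • Γ ∩ g' • Γ = g • Γ ∩ g' • Γ :=
    H.inter_eq_of_subset k g' hkB _ hf hkF Set.inter_subset_right
  have e3 : (g • Γ ∪ g' • Γ) ∩ k • Γ = g • Γ ∩ g' • Γ := by
    rw [Set.union_inter_distrib_right, Set.inter_comm (g • Γ) (k • Γ),
      Set.inter_comm (g' • Γ) (k • Γ), e1, e2, Set.union_self]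
  have c1 := Set.ncard_union_add_ncard_inter (g • Γ) (g' • Γ)
  have c2 := Set.ncard_union_add_ncard_inter (g • Γ ∪ g' • Γ) (k • Γ)
  rw [e3] at c2
  rw [hf] at c1 c2
  simp only [ncard_smul_set'] at c1 c2
  have c3 : (g • Γ ∪ g' • Γ ∪ k • Γ).ncard ≤ Fintype.card α := by
    rw [← Nat.card_eq_fintype_card, ← Set.ncard_univ]
    exact Set.ncard_le_ncard (Set.subset_univ _)
  have := H.hcard
  omega

/-- the stabilizer of `Γ` in `G_(F)` is transitive on `Γ \ F` -/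
theorem exists_stab (g' : G) (hne : g' • Γ ≠ Γ) (hf : (g' • Γ ∩ Γ).ncard = f)
    (x x' : α) (hx : x ∈ Γ) (hx' : x' ∈ Γ) (hxF : x ∉ g' • Γ) (hxF' : x' ∉ g' • Γ) :
    ∃ k : G, k • Γ = Γ ∧ (∀ z ∈ g' • Γ ∩ Γ, k • z = z) ∧ k • x = x' := by
  have hne' : g' • Γ ≠ (1 : G) • Γ := by rwa [one_smul]
  have hflat := H.flat_inter g' 1 hne' (by rw [one_smul, hf]; exact H.hf2)
  rw [one_smul] at hflat
  obtain ⟨k, hk, hkx⟩ := (isFlat_iff _).1 hflat x (fun hc => hxF hc.1) x' (fun hc => hxF' hc.1)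
  refine ⟨k, ?_, hk, hkx⟩
  by_contra hkΓ
  have h1 := H.hmax k hkΓ
  -- k Γ ∩ Γ contains F ∪ {x'}
  have hsub : insert x' (g' • Γ ∩ Γ) ⊆ k • Γ ∩ Γ := by
    intro z hz
    rcases hz with rfl | hz
    · exact ⟨⟨x, hx, hkx⟩, hx'⟩
    · exact ⟨⟨z, hz.2, hk z hz⟩, hz.2⟩
  have h2 := Set.ncard_le_ncard hsub
  rw [Set.ncard_insert_of_notMem (fun hc => hxF' hc.1), hf] at h2
  omega


/-- flag transitivity : inside `G_(Φ)` any translate through the flat `Φ` can be moved to any other -/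
theorem flag_trans (k' : G) : ∀ (d : ℕ) (Φ : Set α) (k : G), IsFlat G Φ → 2 ≤ Φ.ncard →
    Φ.ncard + d = Γ.ncard → Φ ⊆ k • Γ → Φ ⊆ k' • Γ →
    ∃ g : G, (∀ z ∈ Φ, g • z = z) ∧ g • (k • Γ) = k' • Γ := by
  intro d
  induction d using Nat.strong_induction_on with
  | _ d ih =>
    intro Φ k hflat h2 hd hk hk'
    by_cases heq : k • Γ = k' • Γ
    · exact ⟨1, fun z _ => one_smul _ _, by rw [one_smul, heq]⟩
    · have hle := H.inter_le k k' heq
      have hΦle : Φ.ncard ≤ f := le_trans (Set.ncard_le_ncard (Set.subset_inter hk hk')) hle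
      have hha := H.ha
      have hlt : Φ.ncard < (k • Γ).ncard := by rw [ncard_smul_set']; omega
      have hlt' : Φ.ncard < (k' • Γ).ncard := by rw [ncard_smul_set']; omega
      obtain ⟨x, hx, hxΦ⟩ := Set.exists_mem_notMem_of_ncard_lt_ncard hlt
      obtain ⟨x', hx', hxΦ'⟩ := Set.exists_mem_notMem_of_ncard_lt_ncard hlt'
      obtain ⟨g1, hg1, hg1x⟩ := (isFlat_iff _).1 hflat x hxΦ x' hxΦ'
      by_cases heq' : (g1 * k) • Γ = k' • Γ
      · refine ⟨g1, hg1, ?_⟩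
        rw [← mul_smul]; exact heq'
      · -- the bigger flat
        have hsub : Φ ⊆ (g1 * k) • Γ ∩ k' • Γ := by
          intro z hz
          refine ⟨?_, hk' hz⟩
          rw [mul_smul]
          exact ⟨z, hk hz, hg1 z hz⟩
        have hx'mem : x' ∈ (g1 * k) • Γ ∩ k' • Γ := by
          refine ⟨?_, hx'⟩
          rw [mul_smul]
          exact ⟨x, hx, hg1x⟩
        have hssub : insert x' Φ ⊆ (g1 * k) • Γ ∩ k' • Γ := by
          intro z hz
          rcases hz with rfl | hz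
          · exact hx'mem
          · exact hsub hz
        have hcard1 := Set.ncard_le_ncard hssub
        rw [Set.ncard_insert_of_notMem hxΦ'] at hcard1
        have h2' : 2 ≤ ((g1 * k) • Γ ∩ k' • Γ).ncard := by omega
        have hflat' := H.flat_inter (g1 * k) k' heq' h2'
        have hle' : ((g1 * k) • Γ ∩ k' • Γ).ncard ≤ Γ.ncard := by
          have := Set.ncard_le_ncard (Set.inter_subset_right : (g1 * k) • Γ ∩ k' • Γ ⊆ k' • Γ)
          rwa [ncard_smul_set'] at this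
        obtain ⟨g2, hg2, hg2A⟩ := ih (Γ.ncard - ((g1 * k) • Γ ∩ k' • Γ).ncard) (by omega)
          ((g1 * k) • Γ ∩ k' • Γ) (g1 * k) hflat' h2' (by omega) Set.inter_subset_left
          Set.inter_subset_right
        refine ⟨g2 * g1, ?_, ?_⟩
        · intro z hz
          rw [mul_smul, hg1 z hz, hg2 z (hsub hz)]
        · rw [mul_smul, ← mul_smul g1 k, hg2A]

/-- `G_{Γ}` is 2-transitive on `Γ` (first form) -/
theorem exists_stab_two (a b b' : α) (ha : a ∈ Γ) (hb : b ∈ Γ) (hb' : b' ∈ Γ) (hab : a ≠ b)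
    (hab' : a ≠ b') : ∃ g : G, g • Γ = Γ ∧ g • a = a ∧ g • b = b' := by
  obtain ⟨g0, hg0, hg0b⟩ := (isFlat_iff _).1 (H.flat1 a) b (fun hc => hab hc.symm) b'
    (fun hc => hab' hc.symm)
  have hg0a : g0 • a = a := hg0 a rfl
  have hflat := H.flat2 a b' hab'
  have hcard2 : ({a, b'} : Set α).ncard = 2 := Set.ncard_pair hab'
  have hha := H.ha
  have hf2 := H.hf2
  have hsub1 : ({a, b'} : Set α) ⊆ g0 • Γ := by
    intro z hz
    rcases hz with rfl | rfl
    · exact ⟨z, ha, hg0a⟩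
    · exact ⟨b, hb, hg0b⟩
  have hsub2 : ({a, b'} : Set α) ⊆ (1 : G) • Γ := by
    rw [one_smul]
    intro z hz
    rcases hz with rfl | rfl
    · exact ha
    · exact hb'
  obtain ⟨g, hg, hgΓ⟩ := H.flag_trans 1 (Γ.ncard - 2) {a, b'} g0 hflat (by omega) (by omega)
    hsub1 hsub2
  rw [one_smul] at hgΓ
  refine ⟨g * g0, ?_, ?_, ?_⟩
  · rw [mul_smul]; exact hgΓ
  · rw [mul_smul, hg0a]; exact hg a (by simp)
  · rw [mul_smul, hg0b]; exact hg b' (by simp)

end Bdry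

end Cfsg.Agent.Lib.Helper20.Marg
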