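import Cfsg.Agent.Lib.Helper20.Marg.Core

/-!
# S3620 (Marggraf) : the boundary case `n = 2m + 1`, part 2 (induction on a hyperplane, Tits)
-/

set_option autoImplicit false
set_option linter.unusedSectionVars false
set_option linter.unusedVariables false

open MulAction
open scoped Pointwise

universe u v

namespace Cfsg.Agent.Lib.Helper20.Marg

variable {G : Type v} [Group G] {α : Type u} [MulAction G α] [Fintype α]

/-- the induction hypothesis : Theorem P in degree `< N` -/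
def IHProp (N : ℕ) : Prop :=
  ∀ {H : Type v} [Group H] {β : Type u} [MulAction H β] [Fintype β] [DecidableEq β],
    Fintype.card β < N → IsPreprimitive H β → ∀ {Δ : Set β}, IsJordanSet H Δ → 2 ≤ Δ.ncard →
    2 * Δ.ncard < Fintype.card β →
    alternatingGroup β ≤ (MulAction.toPermHom H β).range

namespace Bdry

variable {Γ : Set α} {f : ℕ} (H : Bdry G Γ f)
include H

/-- `G_{Γ}` is 2-transitive on `Γ` -/
theorem two_trans_stab : IsMultiplyPretransitive (stabilizer G Γ) Γ 2 := by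
  rw [is_two_pretransitive_iff]
  intro a b c d hab hcd
  have hha := H.ha
  have hf2 := H.hf2
  -- a third point e of Γ different from a and c
  have hlt : ({(a : α), (c : α)} : Set α).ncard < Γ.ncard := by
    have := Set.ncard_insert_le (a : α) ({(c : α)} : Set α)
    rw [Set.ncard_singleton] at this
    omega
  obtain ⟨e, he, heac⟩ := Set.exists_mem_notMem_of_ncard_lt_ncard hlt
  have hea : e ≠ a := fun hc => heac (by simp [hc])
  have hec : e ≠ c := fun hc => heac (by simp [hc])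
  obtain ⟨g1, hg1Γ, hg1e, hg1a⟩ := H.exists_stab_two e a c he a.2 c.2 hea hec
  have hb1 : g1 • (b : α) ∈ Γ := by
    have : g1 • (b : α) ∈ g1 • Γ := ⟨b, b.2, rfl⟩
    rwa [hg1Γ] at this
  have hcb1 : (c : α) ≠ g1 • (b : α) := by
    intro hc
    rw [← hg1a] at hc
    exact hab (Subtype.ext (MulAction.injective g1 hc))
  have hcd' : (c : α) ≠ d := fun hc => hcd (Subtype.ext hc)
  obtain ⟨g2, hg2Γ, hg2c, hg2b⟩ := H.exists_stab_two c (g1 • (b : α)) d c.2 hb1 d.2 hcb1 hcd'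
  have hmem : g2 * g1 ∈ stabilizer G Γ := by
    rw [mem_stabilizer_iff, mul_smul, hg1Γ, hg2Γ]
  refine ⟨⟨g2 * g1, hmem⟩, ?_, ?_⟩
  · apply Subtype.ext
    change (g2 * g1) • (a : α) = c
    rw [mul_smul, hg1a, hg2c]
  · apply Subtype.ext
    change (g2 * g1) • (b : α) = d
    rw [mul_smul, hg2b]

/-- the Jordan set `Γ \ g'Γ` of `G_{Γ}` acting on `Γ` -/
theorem jordan_stab (g' : G) (hne : g' • Γ ≠ Γ) (hf : (g' • Γ ∩ Γ).ncard = f) :
    IsJordanSet (stabilizer G Γ) {z : Γ | (z : α) ∉ g' • Γ} := by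
  intro x hx y hy
  obtain ⟨k, hkΓ, hk, hkx⟩ := H.exists_stab g' hne hf x y x.2 y.2 hx hy
  refine ⟨⟨k, mem_stabilizer_iff.2 hkΓ⟩, ?_, ?_⟩
  · intro z hz
    apply Subtype.ext
    change k • (z : α) = z
    apply hk
    refine ⟨?_, z.2⟩
    by_contra hc
    exact hz hc
  · apply Subtype.ext
    exact hkx

theorem ncard_jordan_stab (g' : G) (hf : (g' • Γ ∩ Γ).ncard = f) :
    ({z : Γ | (z : α) ∉ g' • Γ} : Set Γ).ncard + f = Γ.ncard := by
  have h1 : ({z : Γ | (z : α) ∉ g' • Γ} : Set Γ) = Subtype.val ⁻¹' (Γ \ g' • Γ) := by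
    ext z
    simp only [Set.mem_ofPred_eq, Set.mem_preimage, Set.mem_sdiff, z.2, true_and]
  rw [h1, Set.ncard_preimage_of_injective_subset_range Subtype.val_injective
    (by intro z hz; exact ⟨⟨z, hz.1⟩, rfl⟩)]
  have h2 := Set.ncard_inter_add_ncard_sdiff_eq_ncard Γ (g' • Γ)
  rw [Set.inter_comm, hf] at h2
  omega


/-- by induction, `G_{Γ}` induces every even permutation of `Γ` -/
theorem alt_lift [Fintype Γ] [DecidableEq Γ] (IH : IHProp.{u, v} (Fintype.card α))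
    (g' : G) (hne : g' • Γ ≠ Γ) (hf : (g' • Γ ∩ Γ).ncard = f)
    (σ : Equiv.Perm Γ) (hσ : Equiv.Perm.sign σ = 1) :
    ∃ k : G, k • Γ = Γ ∧ ∀ z (hz : z ∈ Γ), k • z = ((σ ⟨z, hz⟩ : Γ) : α) := by
  have hprim : IsPreprimitive (stabilizer G Γ) Γ :=
    isPreprimitive_of_is_two_pretransitive H.two_trans_stab
  have hJ := H.jordan_stab g' hne hf
  have hn := H.ncard_jordan_stab g' hf
  have hha := H.ha
  have hf2 := H.hf2
  have hcard := H.hcard
  have hne' : g' • Γ ≠ (1 : G) • Γ := by rwa [one_smul]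
  have h2f := H.card_le_two_f g' 1 hne' (by rwa [one_smul])
  have hcΓ : Fintype.card Γ = Γ.ncard := by
    rw [← Nat.card_eq_fintype_card, Nat.card_coe_set_eq]
  have hle := IH (H := stabilizer G Γ) (β := Γ) (by rw [hcΓ]; omega) hprim hJ (by omega)
    (by rw [hcΓ]; omega)
  have hmem : σ ∈ alternatingGroup Γ := Equiv.Perm.mem_alternatingGroup.2 hσ
  obtain ⟨k, hk⟩ := hle hmem
  refine ⟨(k : G), mem_stabilizer_iff.1 k.2, ?_⟩
  intro z hz
  rw [← hk]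
  rfl


/-- exchanging a point of `F` with a point of `Γ \ F` gives again an intersection with a translate -/
theorem exists_swap_translate [Fintype Γ] [DecidableEq Γ]
    (hAlt : ∀ σ : Equiv.Perm Γ, Equiv.Perm.sign σ = 1 →
      ∃ k : G, k • Γ = Γ ∧ ∀ z (hz : z ∈ Γ), k • z = ((σ ⟨z, hz⟩ : Γ) : α))
    (g' : G) (hne : g' • Γ ≠ Γ) (hf : (g' • Γ ∩ Γ).ncard = f)
    (a₀ x b b' : α) (ha₀ : a₀ ∈ g' • Γ ∩ Γ) (hx : x ∈ Γ) (hxB : x ∉ g' • Γ)
    (hb : b ∈ g' • Γ ∩ Γ) (hb' : b' ∈ g' • Γ ∩ Γ) (hba : b ≠ a₀) (hb'a : b' ≠ a₀)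
    (hbb' : b ≠ b') :
    ∃ g₂ : G, g₂ • Γ ≠ Γ ∧ g₂ • Γ ∩ Γ = insert x ((g' • Γ ∩ Γ) \ {a₀}) := by
  have hxa : x ≠ a₀ := fun hc => hxB (hc ▸ ha₀.1)
  have hxb : x ≠ b := fun hc => hxB (hc ▸ hb.1)
  have hxb' : x ≠ b' := fun hc => hxB (hc ▸ hb'.1)
  set A0 : Γ := ⟨a₀, ha₀.2⟩ with hA0
  set X : Γ := ⟨x, hx⟩ with hX
  set B1 : Γ := ⟨b, hb.2⟩ with hB1
  set B2 : Γ := ⟨b', hb'.2⟩ with hB2
  have hAX : A0 ≠ X := fun hc => hxa (congrArg Subtype.val hc).symm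
  have hB12 : B1 ≠ B2 := fun hc => hbb' (congrArg Subtype.val hc)
  have hsign : Equiv.Perm.sign (Equiv.swap A0 X * Equiv.swap B1 B2) = 1 := by
    rw [Equiv.Perm.sign_mul, Equiv.Perm.sign_swap hAX, Equiv.Perm.sign_swap hB12]
    simp
  obtain ⟨k, hkΓ, hk⟩ := hAlt _ hsign
  have hsub : k • (g' • Γ ∩ Γ) ⊆ insert x ((g' • Γ ∩ Γ) \ {a₀}) := by
    rintro _ ⟨z, hz, rfl⟩
    change k • z ∈ _
    rw [hk z hz.2]
    by_cases hza : z = a₀
    · subst hza
      have h1 : Equiv.swap B1 B2 (⟨z, hz.2⟩ : Γ) = ⟨z, hz.2⟩ := by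
        apply Equiv.swap_apply_of_ne_of_ne
        · intro hc; exact hba (congrArg Subtype.val hc).symm
        · intro hc; exact hb'a (congrArg Subtype.val hc).symm
      rw [Equiv.Perm.mul_apply, h1]
      have h2 : Equiv.swap A0 X (⟨z, hz.2⟩ : Γ) = X := Equiv.swap_apply_left _ _
      rw [h2]
      exact Or.inl rfl
    · by_cases hzb : z = b
      · subst hzb
        have h1 : Equiv.swap B1 B2 (⟨z, hz.2⟩ : Γ) = B2 := Equiv.swap_apply_left _ _
        rw [Equiv.Perm.mul_apply, h1]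
        have h2 : Equiv.swap A0 X B2 = B2 := by
          apply Equiv.swap_apply_of_ne_of_ne
          · intro hc; exact hb'a (congrArg Subtype.val hc)
          · intro hc; exact hxb' (congrArg Subtype.val hc).symm
        rw [h2]
        exact Or.inr ⟨hb', hb'a⟩
      · by_cases hzb' : z = b'
        · subst hzb'
          have h1 : Equiv.swap B1 B2 (⟨z, hz.2⟩ : Γ) = B1 := Equiv.swap_apply_right _ _
          rw [Equiv.Perm.mul_apply, h1]
          have h2 : Equiv.swap A0 X B1 = B1 := by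
            apply Equiv.swap_apply_of_ne_of_ne
            · intro hc; exact hba (congrArg Subtype.val hc)
            · intro hc; exact hxb (congrArg Subtype.val hc).symm
          rw [h2]
          exact Or.inr ⟨hb, hba⟩
        · have h1 : Equiv.swap B1 B2 (⟨z, hz.2⟩ : Γ) = ⟨z, hz.2⟩ := by
            apply Equiv.swap_apply_of_ne_of_ne
            · intro hc; exact hzb (congrArg Subtype.val hc)
            · intro hc; exact hzb' (congrArg Subtype.val hc)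
          rw [Equiv.Perm.mul_apply, h1]
          have hzx : z ≠ x := fun hc => hxB (hc ▸ hz.1)
          have h2 : Equiv.swap A0 X (⟨z, hz.2⟩ : Γ) = ⟨z, hz.2⟩ := by
            apply Equiv.swap_apply_of_ne_of_ne
            · intro hc; exact hza (congrArg Subtype.val hc)
            · intro hc; exact hzx (congrArg Subtype.val hc)
          rw [h2]
          exact Or.inr ⟨hz, hza⟩
  have hf1 : 1 ≤ f := le_trans (by norm_num) H.hf2
  have hcardT : (insert x ((g' • Γ ∩ Γ) \ {a₀})).ncard = f := by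
    rw [Set.ncard_insert_of_notMem (fun hc => hxB hc.1.1), Set.ncard_sdiff_singleton_of_mem ha₀, hf]
    omega
  have heq : k • (g' • Γ ∩ Γ) = insert x ((g' • Γ ∩ Γ) \ {a₀}) := by
    apply Set.eq_of_subset_of_ncard_le hsub
    rw [hcardT, ncard_smul_set', hf]
  have hinter : (k * g') • Γ ∩ Γ = k • (g' • Γ ∩ Γ) := by
    rw [Set.smul_set_inter, hkΓ, mul_smul]
  refine ⟨k * g', ?_, ?_⟩
  · intro hc
    have h1 : ((k * g') • Γ ∩ Γ).ncard = f := by rw [hinter, heq, hcardT]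
    rw [hc, Set.inter_self] at h1
    have := H.ha
    omega
  · rw [hinter, heq]


/-- the translate through `F - a₀ + x + y` -/
theorem exists_third [Fintype Γ] [DecidableEq Γ]
    (hAlt : ∀ σ : Equiv.Perm Γ, Equiv.Perm.sign σ = 1 →
      ∃ k : G, k • Γ = Γ ∧ ∀ z (hz : z ∈ Γ), k • z = ((σ ⟨z, hz⟩ : Γ) : α))
    (g' : G) (hne : g' • Γ ≠ Γ) (hf : (g' • Γ ∩ Γ).ncard = f)
    (x y : α) (hx : x ∈ Γ) (hxB : x ∉ g' • Γ) (hy : y ∈ g' • Γ) (hyA : y ∉ Γ)
    (a₀ : α) (ha₀ : a₀ ∈ g' • Γ ∩ Γ) :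
    ∃ k : G, k • Γ ∩ Γ = insert x ((g' • Γ ∩ Γ) \ {a₀}) ∧
      k • Γ ∩ g' • Γ = insert y ((g' • Γ ∩ Γ) \ {a₀}) := by
  have hha := H.ha
  have hf2 := H.hf2
  have hne' : g' • Γ ≠ (1 : G) • Γ := by rwa [one_smul]
  have h2f := H.card_le_two_f g' 1 hne' (by rwa [one_smul])
  have hcF : ((g' • Γ ∩ Γ) \ {a₀}).ncard = f - 1 := by
    rw [Set.ncard_sdiff_singleton_of_mem ha₀, hf]
  have h1lt : 1 < ((g' • Γ ∩ Γ) \ {a₀}).ncard := by rw [hcF]; omega
  obtain ⟨b, b', hb, hb', hbb'⟩ := (Set.one_lt_ncard_iff).1 h1lt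
  obtain ⟨g₂, hg₂ne, hg₂⟩ := H.exists_swap_translate hAlt g' hne hf a₀ x b b' ha₀ hx hxB hb.1 hb'.1
    (fun hc => hb.2 hc) (fun hc => hb'.2 hc) hbb'
  have hcardF' : (insert x ((g' • Γ ∩ Γ) \ {a₀})).ncard = f := by
    rw [Set.ncard_insert_of_notMem (fun hc => hxB hc.1.1), hcF]
    omega
  have hg₂ne' : g₂ • Γ ≠ (1 : G) • Γ := by rwa [one_smul]
  have hg₂f : (g₂ • Γ ∩ (1 : G) • Γ).ncard = f := by rw [one_smul, hg₂, hcardF']
  obtain ⟨k, hkF, hky⟩ := H.exists_translate g₂ 1 hg₂ne' hg₂f y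
    (by rw [one_smul]; exact fun hc => hyA hc.2)
  rw [one_smul, hg₂] at hkF
  have hkΓ : k • Γ ≠ (1 : G) • Γ := by
    rw [one_smul]; exact fun hc => hyA (hc ▸ hky)
  have hsubΓ : insert x ((g' • Γ ∩ Γ) \ {a₀}) ⊆ (1 : G) • Γ := by
    rw [one_smul]
    intro z hz
    rcases hz with rfl | hz
    · exact hx
    · exact hz.1.2
  have e1 := H.inter_eq_of_subset k 1 hkΓ _ hcardF' hkF hsubΓ
  rw [one_smul] at e1
  have hxk : x ∈ k • Γ := hkF (Or.inl rfl)
  have hkB : k • Γ ≠ g' • Γ := fun hc => hxB (hc ▸ hxk)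
  have hcardF'' : (insert y ((g' • Γ ∩ Γ) \ {a₀})).ncard = f := by
    rw [Set.ncard_insert_of_notMem (fun hc => hyA hc.1.2), hcF]
    omega
  have hsub1 : insert y ((g' • Γ ∩ Γ) \ {a₀}) ⊆ k • Γ := by
    intro z hz
    rcases hz with rfl | hz
    · exact hky
    · exact hkF (Or.inr hz)
  have hsub2 : insert y ((g' • Γ ∩ Γ) \ {a₀}) ⊆ g' • Γ := by
    intro z hz
    rcases hz with rfl | hz
    · exact hy
    · exact hz.1.1
  have e2 := H.inter_eq_of_subset k g' hkB _ hcardF'' hsub1 hsub2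
  exact ⟨k, e1, e2⟩


/-- Tits' argument : the final contradiction -/
theorem false_of_alt [Fintype Γ] [DecidableEq Γ]
    (hAlt : ∀ σ : Equiv.Perm Γ, Equiv.Perm.sign σ = 1 →
      ∃ k : G, k • Γ = Γ ∧ ∀ z (hz : z ∈ Γ), k • z = ((σ ⟨z, hz⟩ : Γ) : α))
    (g' : G) (hne : g' • Γ ≠ Γ) (hf : (g' • Γ ∩ Γ).ncard = f) : False := by
  have hha := H.ha
  have hf2 := H.hf2
  have hcard := H.hcard
  -- points x ∈ Γ \ g'Γ and y ∈ g'Γ \ Γ
  have hlt1 : (g' • Γ ∩ Γ).ncard < Γ.ncard := by rw [hf]; omega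
  obtain ⟨x, hx, hxF⟩ := Set.exists_mem_notMem_of_ncard_lt_ncard hlt1
  have hxB : x ∉ g' • Γ := fun hc => hxF ⟨hc, hx⟩
  have hlt2 : (g' • Γ ∩ Γ).ncard < (g' • Γ).ncard := by rw [hf, ncard_smul_set']; omega
  obtain ⟨y, hy, hyF⟩ := Set.exists_mem_notMem_of_ncard_lt_ncard hlt2
  have hyA : y ∉ Γ := fun hc => hyF ⟨hy, hc⟩
  -- for every a₀ ∈ F a point outside Γ ∪ g'Γ
  have key : ∀ a₀ : α, ∃ d : α, a₀ ∈ g' • Γ ∩ Γ → d ∉ Γ ∧ d ∉ g' • Γ ∧ ∃ k : G, d ∈ k • Γ ∧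
      k • Γ ∩ Γ = insert x ((g' • Γ ∩ Γ) \ {a₀}) ∧
      k • Γ ∩ g' • Γ = insert y ((g' • Γ ∩ Γ) \ {a₀}) := by
    intro a₀
    by_cases ha₀ : a₀ ∈ g' • Γ ∩ Γ
    · obtain ⟨k, e1, e2⟩ := H.exists_third hAlt g' hne hf x y hx hxB hy hyA a₀ ha₀
      have hcF : ((g' • Γ ∩ Γ) \ {a₀}).ncard = f - 1 := by
        rw [Set.ncard_sdiff_singleton_of_mem ha₀, hf]
      have hcT : (insert y (insert x ((g' • Γ ∩ Γ) \ {a₀}))).ncard < (k • Γ).ncard := by
        rw [ncard_smul_set']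
        have h1 := Set.ncard_insert_le y (insert x ((g' • Γ ∩ Γ) \ {a₀}))
        have h2 := Set.ncard_insert_le x ((g' • Γ ∩ Γ) \ {a₀})
        omega
      obtain ⟨d, hdk, hdT⟩ := Set.exists_mem_notMem_of_ncard_lt_ncard hcT
      refine ⟨d, fun _ => ⟨?_, ?_, k, hdk, e1, e2⟩⟩
      · intro hc
        have : d ∈ k • Γ ∩ Γ := ⟨hdk, hc⟩
        rw [e1] at this
        exact hdT (Or.inr this)
      · intro hc
        have : d ∈ k • Γ ∩ g' • Γ := ⟨hdk, hc⟩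
        rw [e2] at this
        rcases this with rfl | h
        · exact hdT (Or.inl rfl)
        · exact hdT (Or.inr (Or.inr h))
    · exact ⟨a₀, fun h => absurd h ha₀⟩
  choose d hd using key
  -- injectivity
  have hinj : Set.InjOn d (g' • Γ ∩ Γ) := by
    intro a₀ ha₀ a₁ ha₁ hdd
    by_contra hne01
    obtain ⟨hdΓ, hdB, k₀, hdk₀, e1, e2⟩ := hd a₀ ha₀
    obtain ⟨_, _, k₁, hdk₁, e1', e2'⟩ := hd a₁ ha₁
    rw [← hdd] at hdk₁
    -- a₁ ∈ k₀Γ but a₁ ∉ k₁Γ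
    have ha₁k₀ : a₁ ∈ k₀ • Γ := by
      have : a₁ ∈ k₀ • Γ ∩ Γ := by
        rw [e1]; exact Or.inr ⟨ha₁, fun hc => hne01 hc.symm⟩
      exact this.1
    have ha₁k₁ : a₁ ∉ k₁ • Γ := by
      intro hc
      have : a₁ ∈ k₁ • Γ ∩ Γ := ⟨hc, ha₁.2⟩
      rw [e1'] at this
      rcases this with h | h
      · exact hxB (h ▸ ha₁.1)
      · exact h.2 rfl
    have hk01 : k₀ • Γ ≠ k₁ • Γ := fun hc => ha₁k₁ (hc ▸ ha₁k₀)
    have hle := H.inter_le k₀ k₁ hk01
    -- U ∪ {d} inside the intersection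
    have hxk₀ : x ∈ k₀ • Γ := by
      have : x ∈ k₀ • Γ ∩ Γ := by rw [e1]; exact Or.inl rfl
      exact this.1
    have hxk₁ : x ∈ k₁ • Γ := by
      have : x ∈ k₁ • Γ ∩ Γ := by rw [e1']; exact Or.inl rfl
      exact this.1
    have hyk₀ : y ∈ k₀ • Γ := by
      have : y ∈ k₀ • Γ ∩ g' • Γ := by rw [e2]; exact Or.inl rfl
      exact this.1
    have hyk₁ : y ∈ k₁ • Γ := by
      have : y ∈ k₁ • Γ ∩ g' • Γ := by rw [e2']; exact Or.inl rfl
      exact this.1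
    have hsubU : insert (d a₀) (insert y (insert x (((g' • Γ ∩ Γ) \ {a₀}) \ {a₁}))) ⊆
        k₀ • Γ ∩ k₁ • Γ := by
      intro z hz
      rcases hz with rfl | rfl | rfl | hz
      · exact ⟨hdk₀, hdk₁⟩
      · exact ⟨hyk₀, hyk₁⟩
      · exact ⟨hxk₀, hxk₁⟩
      · refine ⟨?_, ?_⟩
        · have : z ∈ k₀ • Γ ∩ Γ := by rw [e1]; exact Or.inr hz.1
          exact this.1
        · have : z ∈ k₁ • Γ ∩ Γ := by rw [e1']; exact Or.inr ⟨hz.1.1, hz.2⟩
          exact this.1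
    have hcU := Set.ncard_le_ncard hsubU
    have hxy : x ≠ y := fun hc => hyA (hc ▸ hx)
    have c1 : ((g' • Γ ∩ Γ) \ {a₀}).ncard = f - 1 := by
      rw [Set.ncard_sdiff_singleton_of_mem ha₀, hf]
    have c2 : (((g' • Γ ∩ Γ) \ {a₀}) \ {a₁}).ncard = f - 2 := by
      have hmem : a₁ ∈ (g' • Γ ∩ Γ) \ {a₀} := ⟨ha₁, fun hc => hne01 hc.symm⟩
      rw [Set.ncard_sdiff_singleton_of_mem hmem, c1]
      omega
    have c3 : (insert x (((g' • Γ ∩ Γ) \ {a₀}) \ {a₁})).ncard = f - 1 := by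
      rw [Set.ncard_insert_of_notMem (fun hc => hxB hc.1.1.1), c2]; omega
    have c4 : (insert y (insert x (((g' • Γ ∩ Γ) \ {a₀}) \ {a₁}))).ncard = f := by
      rw [Set.ncard_insert_of_notMem, c3]
      · omega
      · rintro (h | h)
        · exact hxy h.symm
        · exact hyA h.1.1.2
    have c5 : (insert (d a₀) (insert y (insert x (((g' • Γ ∩ Γ) \ {a₀}) \ {a₁})))).ncard
        = f + 1 := by
      rw [Set.ncard_insert_of_notMem, c4]
      rintro (h | h | h)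
      · exact hdB (h ▸ hy)
      · exact hdΓ (h ▸ hx)
      · exact hdΓ h.1.1.2
    omega
  have hmaps : ∀ a ∈ g' • Γ ∩ Γ, d a ∈ (Γ ∪ g' • Γ)ᶜ := by
    intro a ha
    obtain ⟨h1, h2, _⟩ := hd a ha
    rintro (h | h)
    · exact h1 h
    · exact h2 h
  have hcount := Set.ncard_le_ncard_of_injOn d hmaps hinj
  have cu := Set.ncard_union_add_ncard_inter Γ (g' • Γ)
  rw [Set.inter_comm, hf, ncard_smul_set'] at cu
  have cc := Set.ncard_add_ncard_compl (Γ ∪ g' • Γ)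
  rw [Nat.card_eq_fintype_card] at cc
  rw [hf] at hcount
  omega

theorem false_of_IH (IH : IHProp.{u, v} (Fintype.card α))
    (g' : G) (hne : g' • Γ ≠ Γ) (hf : (g' • Γ ∩ Γ).ncard = f) : False := by
  classical
  have : Fintype Γ := Fintype.ofFinite Γ
  exact H.false_of_alt (H.alt_lift IH g' hne hf) g' hne hf

end Bdry

end Cfsg.Agent.Lib.Helper20.Marg
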