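import Cfsg.Agent.Lib.Helper20.Marg.Core2

/-!
# S3620 (Marggraf) : the induction (Theorem P from pieces (A) and (B))
-/

set_option autoImplicit false
set_option linter.unusedSectionVars false
set_option linter.unusedVariables false

open MulAction
open scoped Pointwise

universe u v

namespace Cfsg.Agent.Lib.Helper20.Marg

variable {G : Type v} [Group G] {α : Type u} [MulAction G α]

/-- the image of a primitive action in `Perm α` is primitive -/
theorem isPreprimitive_range (hG : IsPreprimitive G α) :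
    IsPreprimitive (MulAction.toPermHom G α).range α := by
  let φ : G → (MulAction.toPermHom G α).range := (MulAction.toPermHom G α).rangeRestrict
  let f : α →ₑ[φ] α := ⟨id, fun g x => rfl⟩
  exact IsPreprimitive.of_surjective (f := f) Function.surjective_id

/-- Jordan sets restrict to point stabilizers -/
theorem isJordanSet_ofStabilizer {Δ : Set α} (hJ : IsJordanSet G Δ) (ω : α) (hω : ω ∉ Δ) :
    IsJordanSet (stabilizer G ω)
      (Subtype.val ⁻¹' Δ : Set (SubMulAction.ofStabilizer G ω)) := by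
  intro x hx y hy
  obtain ⟨g, hg, hgx⟩ := hJ x hx y hy
  have hmem : g ∈ stabilizer G ω := hg ω hω
  refine ⟨⟨g, hmem⟩, ?_, ?_⟩
  · intro z hz
    apply Subtype.ext
    exact hg z hz
  · apply Subtype.ext
    exact hgx

theorem ncard_preimage_ofStabilizer [Finite α] (Δ : Set α) (ω : α) (hω : ω ∉ Δ) :
    (Subtype.val ⁻¹' Δ : Set (SubMulAction.ofStabilizer G ω)).ncard = Δ.ncard := by
  apply Set.ncard_preimage_of_injective_subset_range Subtype.val_injective
  intro z hz
  refine ⟨⟨z, ?_⟩, rfl⟩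
  rw [SubMulAction.mem_ofStabilizer_iff]
  intro hc
  exact hω (hc ▸ hz)


/-- if a point stabilizer induces the alternating group on the other points, the group contains
a 3-cycle -/
theorem threeCycle_mem_range [Fintype α] [DecidableEq α] (ω : α)
    [Fintype (SubMulAction.ofStabilizer G ω)] [DecidableEq (SubMulAction.ofStabilizer G ω)]
    (hle : alternatingGroup (SubMulAction.ofStabilizer G ω) ≤
      (MulAction.toPermHom (stabilizer G ω) (SubMulAction.ofStabilizer G ω)).range)
    (hcard : 4 ≤ Fintype.card α) :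
    ∃ σ : Equiv.Perm α, σ.IsThreeCycle ∧ σ ∈ (MulAction.toPermHom G α).range := by
  have hc1 := SubMulAction.nat_card_ofStabilizer_add_one_eq G ω
  rw [Nat.card_eq_fintype_card, Nat.card_eq_fintype_card] at hc1
  have h3 : 2 < Fintype.card (SubMulAction.ofStabilizer G ω) := by omega
  obtain ⟨a, b, c, hab, hac, hbc⟩ := Fintype.two_lt_card_iff.1 h3
  have h3c : (Equiv.swap a b * Equiv.swap a c).IsThreeCycle :=
    Equiv.Perm.isThreeCycle_swap_mul_swap_same hab hac hbc
  have hmem : Equiv.swap a b * Equiv.swap a c ∈ alternatingGroup (SubMulAction.ofStabilizer G ω) :=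
    Equiv.Perm.mem_alternatingGroup.2 h3c.sign
  obtain ⟨k, hk⟩ := hle hmem
  have hab' : (a : α) ≠ b := fun h => hab (Subtype.ext h)
  have hac' : (a : α) ≠ c := fun h => hac (Subtype.ext h)
  have hbc' : (b : α) ≠ c := fun h => hbc (Subtype.ext h)
  have haω : (a : α) ≠ ω := (SubMulAction.mem_ofStabilizer_iff G ω).1 a.2
  have hbω : (b : α) ≠ ω := (SubMulAction.mem_ofStabilizer_iff G ω).1 b.2
  have hcω : (c : α) ≠ ω := (SubMulAction.mem_ofStabilizer_iff G ω).1 c.2
  refine ⟨Equiv.swap (a : α) b * Equiv.swap (a : α) c,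
    Equiv.Perm.isThreeCycle_swap_mul_swap_same hab' hac' hbc', (k : G), ?_⟩
  ext z
  rw [MulAction.toPermHom_apply, MulAction.toPerm_apply]
  by_cases hz : z = ω
  · subst hz
    rw [Equiv.Perm.mul_apply, Equiv.swap_apply_of_ne_of_ne haω.symm hcω.symm,
      Equiv.swap_apply_of_ne_of_ne haω.symm hbω.symm]
    exact k.2
  · have hzmem : z ∈ SubMulAction.ofStabilizer G ω := (SubMulAction.mem_ofStabilizer_iff G ω).2 hz
    have h1 : ((k • (⟨z, hzmem⟩ : SubMulAction.ofStabilizer G ω) :
        SubMulAction.ofStabilizer G ω) : α) = (k : G) • z := rfl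
    rw [← h1]
    have h2 : k • (⟨z, hzmem⟩ : SubMulAction.ofStabilizer G ω) =
        (Equiv.swap a b * Equiv.swap a c) ⟨z, hzmem⟩ := by
      rw [← hk]; rfl
    rw [h2, Equiv.Perm.mul_apply, Equiv.Perm.mul_apply,
      ← Function.Injective.swap_apply Subtype.val_injective,
      ← Function.Injective.swap_apply Subtype.val_injective]


/-- the boundary case `n = 2m + 1` -/
theorem boundary (hB : DiffOneProp.{u, v}) [Fintype α] [DecidableEq α]
    (IH : IHProp.{u, v} (Fintype.card α)) (hG : IsPreprimitive G α)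
    (h2t : IsMultiplyPretransitive G α 2) (h3t : IsMultiplyPretransitive G α 3)
    {Δ : Set α} (hJ : IsJordanSet G Δ) (h1 : 2 ≤ Δ.ncard)
    (hn : Fintype.card α = 2 * Δ.ncard + 1) :
    alternatingGroup α ≤ (MulAction.toPermHom G α).range := by
  classical
  have hcompl : Δᶜ.ncard + Δ.ncard = Fintype.card α := by
    have := Set.ncard_add_ncard_compl Δ
    rw [Nat.card_eq_fintype_card] at this
    omega
  have hΓ : Δᶜ.ncard = Δ.ncard + 1 := by omega
  have flatΓ : IsFlat G Δᶜ := by
    unfold IsFlat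
    rwa [compl_compl]
  have flat1 : ∀ a : α, IsFlat G {a} := fun a =>
    isFlat_of_isMultiplyPretransitive h2t {a} (by rw [Set.ncard_singleton])
  have flat2 : ∀ a b : α, a ≠ b → IsFlat G {a, b} := fun a b hab =>
    isFlat_of_isMultiplyPretransitive h3t {a, b} (by rw [Set.ncard_pair hab])
  -- a translate sharing two points
  have h3le : 2 < Δᶜ.ncard := by omega
  obtain ⟨a, b, c, ha, hb, hc, hab, hac, hbc⟩ := (Set.two_lt_ncard_iff).1 h3le
  obtain ⟨d, hd⟩ : ∃ d, d ∈ Δ := by
    have : 0 < Δ.ncard := by omega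
    exact (Set.ncard_pos).1 this
  have hcab : c ∉ ({a, b} : Set α) := by
    simp only [Set.mem_insert_iff, Set.mem_singleton_iff, not_or]
    exact ⟨hac.symm, hbc.symm⟩
  have hdab : d ∉ ({a, b} : Set α) := by
    simp only [Set.mem_insert_iff, Set.mem_singleton_iff, not_or]
    exact ⟨fun h => ha (h ▸ hd), fun h => hb (h ▸ hd)⟩
  obtain ⟨g₀, hg₀, hg₀c⟩ := (isFlat_iff _).1 (flat2 a b hab) c hcab d hdab
  have hg₀ne : g₀ • Δᶜ ≠ Δᶜ := by
    intro h
    have : d ∈ g₀ • Δᶜ := ⟨c, hc, hg₀c⟩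
    rw [h] at this
    exact this hd
  have hg₀2 : 2 ≤ (g₀ • Δᶜ ∩ Δᶜ).ncard := by
    have hsub : ({a, b} : Set α) ⊆ g₀ • Δᶜ ∩ Δᶜ := by
      intro z hz
      rcases hz with rfl | rfl
      · exact ⟨⟨z, ha, hg₀ z (by simp)⟩, ha⟩
      · exact ⟨⟨z, hb, hg₀ z (by simp)⟩, hb⟩
    have := Set.ncard_le_ncard hsub
    rwa [Set.ncard_pair hab] at this
  -- the maximal intersection size
  let P : ℕ → Prop := fun k => ∃ g : G, g • Δᶜ ≠ Δᶜ ∧ (g • Δᶜ ∩ Δᶜ).ncard = k
  have hle : ∀ g : G, (g • Δᶜ ∩ Δᶜ).ncard ≤ Δᶜ.ncard := fun g =>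
    Set.ncard_le_ncard Set.inter_subset_right
  have hP₀ : P (g₀ • Δᶜ ∩ Δᶜ).ncard := ⟨g₀, hg₀ne, rfl⟩
  obtain ⟨g₁, hg₁ne, hg₁⟩ : P (Nat.findGreatest P Δᶜ.ncard) :=
    Nat.findGreatest_spec (hle g₀) hP₀
  set f := Nat.findGreatest P Δᶜ.ncard with hf_def
  have hmax : ∀ g : G, g • Δᶜ ≠ Δᶜ → (g • Δᶜ ∩ Δᶜ).ncard ≤ f := fun g hg =>
    Nat.le_findGreatest (hle g) ⟨g, hg, rfl⟩
  have hf2 : 2 ≤ f := le_trans hg₀2 (hmax g₀ hg₀ne)
  have hflt : f < Δᶜ.ncard := by
    rw [← hg₁]
    refine Set.ncard_lt_ncard ⟨Set.inter_subset_right, ?_⟩ (Set.toFinite _)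
    intro hsub
    apply hg₁ne
    symm
    apply Set.eq_of_subset_of_ncard_le (fun z hz => (hsub hz).1)
    rw [ncard_smul_set']
  by_cases hcase : f + 2 ≤ Δᶜ.ncard
  · exfalso
    have H : Bdry G Δᶜ f :=
      { flatΓ := flatΓ, flat1 := flat1, flat2 := flat2, hmax := hmax, hf2 := hf2,
        hcard := by omega, ha := hcase }
    exact H.false_of_IH IH g₁ hg₁ne hg₁
  · -- two Jordan sets differing in one point
    have hf1 : f + 1 = Δᶜ.ncard := by omega
    have hJ1 : IsJordanSet G (g₁ • Δ) := hJ.smul g₁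
    have hd1 : ((g₁ • Δ) \ Δ).ncard = 1 := by
      have e : (g₁ • Δ) \ Δ = Δᶜ \ (g₁ • Δᶜ) := by
        rw [Set.smul_set_compl]
        ext z
        simp only [Set.mem_sdiff, Set.mem_compl_iff, not_not]
        tauto
      rw [e]
      have h2 := Set.ncard_inter_add_ncard_sdiff_eq_ncard Δᶜ (g₁ • Δᶜ)
      rw [Set.inter_comm, hg₁] at h2
      omega
    exact hB hG hJ hJ1 h1 (ncard_smul_set' g₁ Δ) (by omega) hd1


/-- the induction step -/
theorem step (hA : StabPrimProp.{u, v}) (hB : DiffOneProp.{u, v}) [Fintype α] [DecidableEq α]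
    (IH : IHProp.{u, v} (Fintype.card α)) (hG : IsPreprimitive G α)
    {Δ : Set α} (hJ : IsJordanSet G Δ) (h1 : 2 ≤ Δ.ncard)
    (h2 : 2 * Δ.ncard < Fintype.card α) :
    alternatingGroup α ≤ (MulAction.toPermHom G α).range := by
  classical
  have hpt : IsPretransitive G α := hG.toIsPretransitive
  have hcompl : Δᶜ.ncard + Δ.ncard = Fintype.card α := by
    have := Set.ncard_add_ncard_compl Δ
    rw [Nat.card_eq_fintype_card] at this
    omega
  have h2t : IsMultiplyPretransitive G α 2 := by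
    apply hG.is_two_pretransitive (s := Δᶜ) (n := Δᶜ.ncard - 1)
    · omega
    · rw [Nat.card_eq_fintype_card]; omega
    · exact (isJordanSet_iff Δ).1 hJ
  obtain ⟨ω, hω⟩ : ∃ ω, ω ∉ Δ := by
    by_contra hc
    push Not at hc
    have : Δ = Set.univ := Set.eq_univ_of_forall hc
    rw [this, Set.ncard_univ, Nat.card_eq_fintype_card] at h2
    omega
  have hprim := hA h2t hJ h1 (by omega) ω
  have hJ' := isJordanSet_ofStabilizer hJ ω hω
  have hn' := ncard_preimage_ofStabilizer (G := G) Δ ω hω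
  have hc1 := SubMulAction.nat_card_ofStabilizer_add_one_eq G ω
  have : Fintype (SubMulAction.ofStabilizer G ω) := Fintype.ofFinite _
  rw [Nat.card_eq_fintype_card, Nat.card_eq_fintype_card] at hc1
  by_cases hcase : 2 * Δ.ncard + 2 ≤ Fintype.card α
  · have hle := IH (H := stabilizer G ω) (β := SubMulAction.ofStabilizer G ω) (by omega) hprim hJ'
      (by omega) (by omega)
    obtain ⟨σ, hσ3, hσ⟩ := threeCycle_mem_range ω hle (by omega)
    exact Equiv.Perm.alternatingGroup_le_of_isPreprimitive_of_isThreeCycle_mem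
      (isPreprimitive_range hG) hσ3 hσ
  · have hn : Fintype.card α = 2 * Δ.ncard + 1 := by omega
    have hcompl' := Set.ncard_add_ncard_compl
      (Subtype.val ⁻¹' Δ : Set (SubMulAction.ofStabilizer G ω))
    rw [Nat.card_eq_fintype_card] at hcompl'
    have h2t' : IsMultiplyPretransitive (stabilizer G ω) (SubMulAction.ofStabilizer G ω) 2 := by
      apply hprim.is_two_pretransitive
        (s := (Subtype.val ⁻¹' Δ : Set (SubMulAction.ofStabilizer G ω))ᶜ) (n := Δ.ncard - 1)
      · omega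
      · rw [Nat.card_eq_fintype_card]; omega
      · exact (isJordanSet_iff _).1 hJ'
    have h3t : IsMultiplyPretransitive G α 3 :=
      (SubMulAction.ofStabilizer.isMultiplyPretransitive (a := ω) (n := 2)).2 h2t'
    exact boundary hB IH hG h2t h3t hJ h1 hn

/-- Theorem P in every degree -/
theorem ihProp (hA : StabPrimProp.{u, v}) (hB : DiffOneProp.{u, v}) : ∀ N : ℕ, IHProp.{u, v} N := by
  intro N
  induction N with
  | zero =>
    intro H _ β _ _ _ hlt
    exact absurd hlt (Nat.not_lt_zero _)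
  | succ N ih =>
    intro H _ β _ _ _ hlt hprim Δ hJ h1 h2
    by_cases hc : Fintype.card β < N
    · exact ih hc hprim hJ h1 h2
    · have hN : Fintype.card β = N := by omega
      exact step hA hB (hN ▸ ih) hprim hJ h1 h2

/-- Theorem P -/
theorem main (hA : StabPrimProp.{u, v}) (hB : DiffOneProp.{u, v}) : MainProp.{u, v} := by
  intro G _ α _ _ _ hG Δ hJ h1 h2
  exact ihProp hA hB (Fintype.card α + 1) (Nat.lt_succ_self _) hG hJ h1 h2

end Cfsg.Agent.Lib.Helper20.Marg
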